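import Cfsg.Agent.Lib.ZJ.StableFree

/-!
# `p`-stability on a normal `p`-subgroup from the induced automorphism group

If `G ⧸ C(P)` has no section `SL(2,p)` then `G` acts `p`-stably on the normal `p`-subgroup `P`.
-/

set_option autoImplicit false

namespace Cfsg.Agent.Lib.BenderOne83.StableQuot

open Subgroup Cfsg.Agent.Lib.PGroups Cfsg.Agent.Lib.ZJ Cfsg.Agent.Lib.PLocal
open scoped commutatorElement

universe u

theorem noSLTwo_of_le {G : Type u} [Group G] {p : ℕ} {C C' : Subgroup G} [C.Normal] [C'.Normal]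
    (h : C ≤ C') (hG : NoSLTwo p (G ⧸ C)) : NoSLTwo p (G ⧸ C') :=
  noSLTwo_of_surjective hG (QuotientGroup.map C C' (MonoidHom.id G) h) fun y => by
    induction y using QuotientGroup.induction_on with
    | H x => exact ⟨(x : G ⧸ C), rfl⟩

theorem noSLTwo_quotient {G H : Type u} [Group G] [Group H] {p : ℕ} (π : G →* H)
    (hπ : Function.Surjective π) {P : Subgroup G} [P.Normal] [(P.map π).Normal]
    (hG : NoSLTwo p (G ⧸ centralizer (P : Set G))) :
    NoSLTwo p (H ⧸ centralizer ((P.map π : Subgroup H) : Set H)) := by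
  refine noSLTwo_of_surjective hG (QuotientGroup.map _ _ π fun x hx => ?_) fun y => ?_
  · rintro _ ⟨v, hv, rfl⟩
    rw [← map_mul, ← map_mul, Subgroup.mem_centralizer_iff.1 hx v hv]
  · induction y using QuotientGroup.induction_on with
    | H x =>
      obtain ⟨g, rfl⟩ := hπ x
      exact ⟨(g : G ⧸ centralizer (P : Set G)), rfl⟩

/-- A quadratic element on a normal elementary abelian `p`-subgroup lands in `O_p(G/C_G(V))`. -/
theorem isPStableOn_elemAb {G : Type u} [Group G] {p : ℕ} [Finite G] [Fact p.Prime] (hp : p ≠ 2)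
    (V : Subgroup G) [V.Normal] (hV : Cfsg.IsElementaryAbelian p V)
    (hG : NoSLTwo p (G ⧸ Subgroup.centralizer (V : Set G))) : Cfsg.IsPStableOn p V := by
  intro a ha
  by_contra hna
  let e : (G ⧸ Subgroup.centralizer (V : Set G)) ≃* ↥(actH V) :=
    MonoidHom.ofInjective SemidirectProduct.inr_injective
  have hxH : actHom V a ∈ actH V := (actHom_range V) ▸ ⟨a, rfl⟩
  have hq : Quadratic.Quad (actV V) (actHom V a) := by
    rintro _ ⟨v, rfl⟩
    have haN : a ∈ Subgroup.normalizer (V : Set G) := by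
      rw [Subgroup.normalizer_eq_top]; trivial
    have hcm : ∀ w : V, ⁅actEmb V w, actHom V a⁆ =
        actEmb V ⟨⁅(w : G), a⁆, commutatorElement_mem haN w.2⟩ := by
      intro w
      have h1 : ⁅actEmb V w, actHom V a⁆ =
          actEmb V w * (actHom V a * actEmb V w⁻¹ * (actHom V a)⁻¹) := by
        rw [commutatorElement_def, map_inv]; group
      rw [h1, actHom_conj, ← map_mul]
      congr 1
      apply Subtype.ext
      show (w : G) * ((MulAut.conjNormal a w⁻¹ : V) : G) = ⁅(w : G), a⁆
      rw [MulAut.conjNormal_apply, Subgroup.coe_inv, commutatorElement_def]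
      group
    show ⁅⁅actEmb V v, actHom V a⁆, actHom V a⁆ = 1
    rw [hcm, hcm, map_eq_one_iff _ (actEmb_injective V)]
    exact Subtype.ext (Quadratic.quad_of_commutator_eq_bot ha (v : G) v.2)
  obtain ⟨K, L, hL, hKH, ⟨i⟩⟩ := Quadratic.exists_section_of_notMem_pCore hp (actV_elemAb V hV)
    (actH_le_normalizer V) (actH_faithful V) hxH hq (fun h => hna (by
      rw [← Cores.map_pCore_equiv e] at h
      obtain ⟨y, hy, hye⟩ := h
      have hy' : y = QuotientGroup.mk a := e.injective (hye.trans (Subtype.ext rfl))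
      exact hy' ▸ hy))
  have hno : NoSLTwo p ↥(actH V) :=
    noSLTwo_of_surjective hG e.toMonoidHom e.surjective
  let j : (K.subgroupOf (actH V)) ≃* K := Subgroup.subgroupOfEquivOfLe hKH
  exact hno (K.subgroupOf (actH V))
    ((i.toMonoidHom.comp (QuotientGroup.mk' (L.subgroupOf K))).comp j.toMonoidHom)
    ((i.surjective.comp (QuotientGroup.mk'_surjective _)).comp j.surjective)

theorem isPStableOn_of_quotient {G : Type u} [Group G] [Finite G] {p : ℕ} [hp : Fact p.Prime]
    (hp2 : p ≠ 2) (P : Subgroup G) [P.Normal] (hP : IsPGroup p P)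
    (hG : NoSLTwo p (G ⧸ centralizer (P : Set G))) :
    Cfsg.IsPStableOn p P := by
  induction hn : Nat.card G using Nat.strong_induction_on generalizing G with
  | _ m ih =>
  subst hn
  intro a ha
  rcases eq_or_ne P ⊥ with hP0 | hP0
  · have : (QuotientGroup.mk a : G ⧸ centralizer (P : Set G)) = 1 := by
      rw [QuotientGroup.eq_one_iff]
      intro x hx
      rw [hP0, SetLike.mem_coe, Subgroup.mem_bot] at hx
      rw [hx, one_mul, mul_one]
    rw [this]
    exact one_mem _
  set Z := P ⊓ centralizer (P : Set G) with hZ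
  have : Z.Normal := Subgroup.normal_inf_normal P _
  set K := Cfsg.omegaOne p Z with hK
  have hKn : K.Normal := omegaOne_normal
  have hZc : IsMulCommutative Z := Subgroup.le_centralizer_iff_isMulCommutative.mp
    (inf_le_right.trans (centralizer_le inf_le_left))
  have hKel : Cfsg.IsElementaryAbelian p K := elemAb_omegaOne hZc
  have hKP : K ≤ P := (omegaOne_le p Z).trans inf_le_left
  have hK0 : K ≠ ⊥ := by
    refine omegaOne_ne_bot (hP.to_le inf_le_left) fun h => ?_
    have : Nontrivial P := (Subgroup.nontrivial_iff_ne_bot P).2 hP0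
    have := hP.center_nontrivial
    obtain ⟨⟨z, hz⟩, hz1⟩ := exists_ne (1 : Subgroup.center P)
    refine hz1 (Subtype.ext (Subtype.ext ?_))
    have : (z : G) ∈ Z := ⟨z.2, fun x hx =>
      congrArg Subtype.val (Subgroup.mem_center_iff.1 hz ⟨x, hx⟩)⟩
    rw [h, Subgroup.mem_bot] at this
    simpa using this
  have hlt : Nat.card (G ⧸ K) < Nat.card G := by
    rw [Subgroup.card_eq_card_quotient_mul_card_subgroup K]
    exact lt_mul_of_one_lt_right Nat.card_pos ((Subgroup.one_lt_card_iff_ne_bot K).2 hK0)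
  set π := QuotientGroup.mk' K with hπ
  have hπs := QuotientGroup.mk'_surjective K
  have : (P.map π).Normal := Subgroup.Normal.map inferInstance π hπs
  obtain ⟨D₁, hD₁n, hCD₁, hD₁j, hD₁a⟩ := exists_stable_sup
    (ih _ hlt (P.map π) (hP.map π) (noSLTwo_quotient π hπs hG) rfl)
  obtain ⟨D₂, hD₂n, hCD₂, hD₂j, hD₂a⟩ :=
    exists_stable_sup (isPStableOn_elemAb hp2 K hKel (noSLTwo_of_le (centralizer_le hKP) hG))
  set C := centralizer (P : Set G) with hC
  set D := D₁.comap π ⊓ D₂ with hD
  have hDn : D.Normal := Subgroup.normal_inf_normal _ _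
  have haD : a ∈ D := by
    refine ⟨hD₁a (π a) ?_, hD₂a a ?_⟩
    · rw [← MonoidHom.map_zpowers, ← Subgroup.map_commutator, ← Subgroup.map_commutator, ha,
        Subgroup.map_bot]
    · rw [eq_bot_iff, ← ha]
      exact Subgroup.commutator_mono (Subgroup.commutator_mono hKP le_rfl) le_rfl
  have hDj : ∀ x ∈ D, ∃ j : ℕ, x ^ (p ^ j) ∈ C := by
    intro x hx
    obtain ⟨i, hi⟩ := hD₁j (π x) hx.1
    obtain ⟨j, hj⟩ := hD₂j x hx.2
    set e := x ^ (p ^ (i + j)) with he
    have he2 : e ∈ centralizer (K : Set G) := by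
      rw [he, pow_add, mul_comm, pow_mul]; exact pow_mem hj _
    have he1 : ∀ b ∈ P, b⁻¹ * (e * b * e⁻¹) ∈ K := by
      intro b hb
      refine (QuotientGroup.eq_one_iff (N := K) _).1 ?_
      have h1 : π e ∈ centralizer ((P.map π : Subgroup (G ⧸ K)) : Set (G ⧸ K)) := by
        rw [he, map_pow, pow_add, pow_mul]; exact pow_mem hi _
      have h2 : π b * π e = π e * π b := Subgroup.mem_centralizer_iff.1 h1 _ ⟨b, hb, rfl⟩
      change π (b⁻¹ * (e * b * e⁻¹)) = 1
      rw [map_mul, map_mul, map_mul, map_inv, map_inv, ← h2, mul_inv_cancel_right, inv_mul_cancel]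
    refine ⟨i + j + 1, ?_⟩
    rw [pow_succ, pow_mul, ← he]
    intro b hb
    set v := b⁻¹ * (e * b * e⁻¹) with hv
    have hve : v * e = e * v := Subgroup.mem_centralizer_iff.1 he2 v (he1 b hb)
    have hstep : ∀ i : ℕ, e ^ i * b * (e ^ i)⁻¹ = b * v ^ i := by
      intro i
      induction i with
      | zero => simp
      | succ i ih =>
        calc e ^ (i + 1) * b * (e ^ (i + 1))⁻¹ = e * (e ^ i * b * (e ^ i)⁻¹) * e⁻¹ := by
              rw [pow_succ']; group
          _ = (e * b) * (v ^ i * e⁻¹) := by rw [ih]; group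
          _ = (e * b) * (e⁻¹ * v ^ i) := by rw [((Commute.pow_left hve i).inv_right).eq]
          _ = b * v * v ^ i := by rw [hv]; group
          _ = b * v ^ (i + 1) := by rw [pow_succ', mul_assoc]
    have h1 := hstep p
    rw [elemAb_pow hKel (he1 b hb), mul_one] at h1
    calc b * e ^ p = e ^ p * b * (e ^ p)⁻¹ * e ^ p := by rw [h1]
      _ = e ^ p * b := by group
  have hDp : IsPGroup p (D.map (QuotientGroup.mk' C)) := by
    rintro ⟨_, x, hx, rfl⟩
    obtain ⟨j, hj⟩ := hDj x hx
    refine ⟨j, Subtype.ext ?_⟩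
    rw [SubmonoidClass.coe_pow, ← map_pow]
    exact (QuotientGroup.eq_one_iff _).2 hj
  have : (D.map (QuotientGroup.mk' C)).Normal :=
    Subgroup.Normal.map hDn _ (QuotientGroup.mk'_surjective C)
  exact Cores.le_pCore hDp ⟨a, haD, rfl⟩

end Cfsg.Agent.Lib.BenderOne83.StableQuot
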