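import Cfsg.Agent.Lib.BenderOne83.Trace
import Cfsg.Agent.Lib.PGroups.UniqueInvolution
import Cfsg.Agent.Lib.Involutions.Basic
import Cfsg.Agent.Lib.Involutions.BaerSuzuki
import Cfsg.Agent.Lib.Quadratic.Involves

/-!
# No quadratic elements when all involutions are central

`C` is a normal subgroup of a finite group `N` of matrices in odd characteristic, without normal
subgroups of odd order, whose involutions are central in `C`, at least two and all conjugate in
`N`.  Then `C` contains no non-trivial quadratic element.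

For two quadratic generators `s + s⁻¹` is central, so for `s` of order four with square `z` the
commutators of `s` act trivially on the fixed points of `z`.  The kernel of that action contains
no involution but `z`, so it has a non-central element of order four; three of them with squares
`z₁`, `z₂`, `z₁ z₂` multiply to an involution, which must be central.
-/

set_option autoImplicit false
set_option linter.style.haveILetI false

namespace Cfsg.Agent.Lib.BenderOne83

open Cfsg.Agent.Lib.Quadratic Cfsg.Agent.Lib.Involutions.Basic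

section Ring

variable {R : Type*} [Ring R] {N : Type*} [Group N]

/-- `g` fixes the fixed points of `z`. -/
def Fixes (ρ : N →* R) (z g : N) : Prop :=
  ρ g * (1 + ρ z) = 1 + ρ z

variable (ρ : N →* R) (h2 : ∀ x : R, x + x = 0 → x = 0)

include h2 in
theorem Fixes.trans {z z' z'' : N} (h : Fixes ρ z z') (h' : Fixes ρ z' z'') :
    Fixes ρ z z'' := by
  unfold Fixes at *
  have e : (1 + ρ z') * (1 + ρ z) = (1 + ρ z) + (1 + ρ z) := by rw [add_mul, one_mul, h]
  refine sub_eq_zero.1 (h2 _ ?_)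
  have e2 := congrArg (ρ z'' * ·) e
  rw [← mul_assoc, h', e, mul_add (ρ z'')] at e2
  rw [show ρ z'' * (1 + ρ z) - (1 + ρ z) + (ρ z'' * (1 + ρ z) - (1 + ρ z)) =
    ρ z'' * (1 + ρ z) + ρ z'' * (1 + ρ z) - ((1 + ρ z) + (1 + ρ z)) by abel, ← e2, sub_self]

theorem Fixes.conj {z g : N} (h : Fixes ρ z g) (n : N) :
    Fixes ρ (n * z * n⁻¹) (n * g * n⁻¹) := by
  unfold Fixes at *
  have e : 1 + ρ (n * z * n⁻¹) = ρ n * (1 + ρ z) * ρ n⁻¹ := by
    rw [mul_add, mul_one, add_mul, ← map_mul, ← map_mul, ← map_mul, mul_inv_cancel, map_one]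
  have hn : ρ n⁻¹ * ρ n = 1 := by rw [← map_mul, inv_mul_cancel, map_one]
  rw [e, map_mul, map_mul]
  calc ρ n * ρ g * ρ n⁻¹ * (ρ n * (1 + ρ z) * ρ n⁻¹)
      = ρ n * ρ g * ((ρ n⁻¹ * ρ n) * (1 + ρ z)) * ρ n⁻¹ := by simp only [mul_assoc]
    _ = ρ n * (1 + ρ z) * ρ n⁻¹ := by rw [hn, one_mul, mul_assoc (ρ n), h]

include h2 in
/-- Conjugate commuting involutions of which one fixes the fixed points of the other are equal. -/
theorem Fixes.eq_of_conj [Finite N] (hρ : Function.Injective ρ) {z n : N} (hz : z * z = 1)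
    (hcomm : z * (n * z * n⁻¹) = n * z * n⁻¹ * z) (h : Fixes ρ z (n * z * n⁻¹)) :
    n * z * n⁻¹ = z := by
  -- the relation runs round the orbit
  have hchain : ∀ j : ℕ, Fixes ρ (n * z * n⁻¹) (n ^ (j + 1) * z * (n ^ (j + 1))⁻¹) := by
    intro j
    induction j with
    | zero =>
      unfold Fixes
      rw [zero_add, pow_one, mul_add, mul_one, ← map_mul, add_comm]
      have : n * z * n⁻¹ * (n * z * n⁻¹) = 1 := by
        calc n * z * n⁻¹ * (n * z * n⁻¹) = n * (z * z) * n⁻¹ := by group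
          _ = 1 := by rw [hz]; group
      rw [this, map_one]
    | succ j ih =>
      refine Fixes.trans ρ h2 ih ?_
      have := Fixes.conj ρ h (n ^ (j + 1))
      rwa [show n ^ (j + 1) * (n * z * n⁻¹) * (n ^ (j + 1))⁻¹ =
        n ^ (j + 1 + 1) * z * (n ^ (j + 1 + 1))⁻¹ by rw [pow_succ n (j + 1)]; group] at this
  obtain ⟨o, ho⟩ : ∃ o, orderOf n = o + 1 := ⟨orderOf n - 1, by
    have := orderOf_pos n; omega⟩
  have h' := hchain o
  rw [← ho, pow_orderOf_eq_one, one_mul, inv_one, mul_one] at h'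
  unfold Fixes at h h'
  rw [mul_add, mul_one, ← map_mul] at h h'
  rw [hcomm] at h'
  refine hρ (sub_eq_zero.1 (h2 _ ?_))
  have e : ρ (n * z * n⁻¹) - ρ z = ρ z - ρ (n * z * n⁻¹) := by
    have h3 := congrArg₂ (fun x y => x - y) h h'
    simp only [add_sub_add_right_eq_sub, add_sub_add_left_eq_sub] at h3
    exact h3
  nth_rewrite 2 [e]
  abel

end Ring

section Main

variable {k : Type*} [Field k] [Finite k] {p : ℕ} [Fact p.Prime] [CharP k p]
  {ι : Type*} [Fintype ι] [DecidableEq ι] {N : Type*} [Group N] [Finite N]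

omit [Finite k] [Fintype ι] [DecidableEq ι] in
theorem two_torsion_free (hp : p ≠ 2) (x : Matrix ι ι k) (hx : x + x = 0) : x = 0 := by
  have h2 : (2 : k) ≠ 0 := by
    intro h
    have h' : ((2 : ℕ) : k) = 0 := by exact_mod_cast h
    rw [CharP.cast_eq_zero_iff k p] at h'
    exact hp ((Nat.prime_dvd_prime_iff_eq Fact.out Nat.prime_two).1 h')
  ext i j
  have := congrFun (congrFun hx i) j
  simp only [Matrix.add_apply, Matrix.zero_apply] at this ⊢
  rw [← two_mul] at this
  exact (mul_eq_zero.1 this).resolve_left h2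

omit [Finite k] in
/-- A central element of order four of a group with two quadratic generators is impossible. -/
theorem not_central_of_pair [Nonempty ι] (hp : p ≠ 2) {Γ : Type*} [Group Γ] [Finite Γ]
    (ρ : Γ →* Matrix ι ι k) (hρ : Function.Injective ρ) {a b : Γ}
    (hgen : Subgroup.closure {a, b} = ⊤) (hu : (ρ a - 1) * (ρ a - 1) = 0)
    (hw : (ρ b - 1) * (ρ b - 1) = 0) {s : Γ} (hs : orderOf s = 4) :
    ∃ g, g * s ≠ s * g := by
  by_contra hc
  push Not at hc
  have h2 := two_torsion_free (ι := ι) (k := k) hp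
  set z := s * s with hz
  have hs4 : s * s * (s * s) = 1 := by
    have := pow_orderOf_eq_one s
    rw [hs] at this
    rw [← this]
    simp [pow_succ, mul_assoc]
  have hz1 : z ≠ 1 := fun h => by
    have := Nat.le_of_dvd two_pos (orderOf_dvd_of_pow_eq_one ((pow_two s).trans h))
    omega
  have hsinv : s⁻¹ = s * z := inv_eq_of_mul_eq_one_right (by rw [← mul_assoc]; exact hs4)
  set c := (ρ a - 1) * (ρ b - 1) + (ρ b - 1) * (ρ a - 1) with hc'
  have hcz : c ^ 2 * (1 - ρ z) = 0 := by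
    have h := congrArg (· * ρ s⁻¹) (Trace.trace_sq_mul_sub ρ hgen hu hw hc h2)
    rw [zero_mul, mul_assoc] at h
    have e : s⁻¹ * s⁻¹ = z := by
      rw [← mul_inv_rev, inv_eq_of_mul_eq_one_right hs4]
    have e' : (ρ s - ρ s⁻¹) * ρ s⁻¹ = 1 - ρ z := by
      rw [sub_mul, ← map_mul, ← map_mul, mul_inv_cancel, map_one, e]
    rwa [e'] at h
  set e : Matrix ι ι k := ((2 : k)⁻¹) • (1 - ρ z) with he
  have hhalf : ∀ x : Matrix ι ι k, ((2 : k)⁻¹) • (x + x) = x := fun x => by
    have h20 : (2 : k) ≠ 0 := by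
      intro h0
      have h1 := h2 1 (by rw [← two_smul k (1 : Matrix ι ι k), h0, zero_smul])
      exact one_ne_zero h1
    rw [← two_smul k x, smul_smul, inv_mul_cancel₀ h20, one_smul]
  have hzz : ρ z * ρ z = 1 := by rw [← map_mul, hs4, map_one]
  have hee : e * e = e := by
    rw [he, smul_mul_assoc, mul_smul_comm]
    congr 1
    have : (1 - ρ z) * (1 - ρ z) = (1 - ρ z) + (1 - ρ z) := by
      rw [mul_sub, sub_mul, sub_mul, hzz, one_mul, one_mul, mul_one]; abel
    rw [this, hhalf]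
  have hce : ∀ g, e * ρ g = ρ g * e := fun g => by
    have hzc : g * z = z * g := by rw [hz, ← mul_assoc, hc g, mul_assoc, hc g, ← mul_assoc]
    rw [he, smul_mul_assoc, mul_smul_comm, sub_mul, mul_sub, one_mul, mul_one, ← map_mul,
      ← map_mul, hzc]
  let ρ' : Γ →* Matrix ι ι k :=
    { toFun := fun g => ρ g * e + (1 - e)
      map_one' := by simp
      map_mul' := fun g h => by
        show ρ (g * h) * e + (1 - e) = (ρ g * e + (1 - e)) * (ρ h * e + (1 - e))
        have t1 : e * (1 - e) = 0 := by rw [mul_sub, mul_one, hee, sub_self]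
        have t2 : (1 - e) * (1 - e) = 1 - e := by
          rw [sub_mul, one_mul, t1, sub_zero]
        have t3 : (1 - e) * (ρ h * e) = 0 := by
          rw [sub_mul, one_mul, ← mul_assoc, hce, mul_assoc, hee, sub_self]
        have t4 : ρ g * e * (ρ h * e) = ρ g * ρ h * e := by
          rw [mul_assoc, ← mul_assoc e, hce, mul_assoc, hee, ← mul_assoc]
        have t5 : ρ g * e * (1 - e) = 0 := by rw [mul_assoc, t1, mul_zero]
        rw [add_mul, mul_add, mul_add, t2, t3, t4, t5, map_mul]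
        abel }
  have hρ' : ∀ g, ρ' g - 1 = (ρ g - 1) * e := fun g => by
    show ρ g * e + (1 - e) - 1 = _
    rw [sub_mul, one_mul]; abel
  have hq : ∀ g, (ρ g - 1) * (ρ g - 1) = 0 → (ρ' g - 1) * (ρ' g - 1) = 0 := fun g hg => by
    have : e * (ρ g - 1) = (ρ g - 1) * e := by rw [mul_sub, sub_mul, hce, mul_one, one_mul]
    rw [hρ', mul_assoc, ← mul_assoc e, this, mul_assoc, hee, ← mul_assoc, hg, zero_mul]
  let Q := Γ ⧸ ρ'.ker
  let σ : Q →* Matrix ι ι k := QuotientGroup.lift ρ'.ker ρ' le_rfl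
  have hσ : Function.Injective σ := by
    rw [injective_iff_map_eq_one]
    intro y hy
    obtain ⟨g, rfl⟩ := QuotientGroup.mk'_surjective ρ'.ker y
    exact (QuotientGroup.eq_one_iff g).2 hy
  have hgen' : Subgroup.closure ({(a : Q), (b : Q)} : Set Q) = ⊤ := by
    have h := congrArg (Subgroup.map (QuotientGroup.mk' ρ'.ker)) hgen
    rw [MonoidHom.map_closure, Set.image_pair, Subgroup.map_top_of_surjective _
      (QuotientGroup.mk'_surjective _)] at h
    exact h
  have hpg : IsPGroup p Q := by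
    refine isPGroup_of_trace_nilpotent σ hσ hgen' (hq a hu) (hq b hw) (m := 2) ?_
    show ((ρ' a - 1) * (ρ' b - 1) + (ρ' b - 1) * (ρ' a - 1)) ^ 2 = 0
    have ce : ∀ g, e * (ρ g - 1) = (ρ g - 1) * e := fun g => by
      rw [mul_sub, sub_mul, hce, mul_one, one_mul]
    have hm : ∀ g h, (ρ' g - 1) * (ρ' h - 1) = (ρ g - 1) * (ρ h - 1) * e := fun g h => by
      rw [hρ', hρ', mul_assoc, ← mul_assoc e, ce, mul_assoc _ e e, hee, ← mul_assoc]
    rw [hm, hm, ← add_mul, ← hc']
    have hcc : e * c = c * e := by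
      rw [hc', mul_add, add_mul, ← mul_assoc, ← mul_assoc, ce, ce, mul_assoc, mul_assoc, ce, ce,
        ← mul_assoc, ← mul_assoc]
    rw [pow_two, mul_assoc, ← mul_assoc e, hcc, mul_assoc, hee, ← mul_assoc, ← pow_two, he,
      mul_smul_comm, hcz, smul_zero]
  have hσz : σ (z : Q) = ρ z := by
    show ρ z * e + (1 - e) = ρ z
    have h1 : ρ z * e = -e := by
      rw [he, mul_smul_comm, mul_sub, hzz, mul_one, ← smul_neg, neg_sub]
    have h2' : e + e = 1 - ρ z := by
      rw [he, ← smul_add, hhalf]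
    rw [h1]
    calc -e + (1 - e) = 1 - (e + e) := by abel
      _ = ρ z := by rw [h2', sub_sub_cancel]
  have hzQ : (z : Q) ^ 2 = 1 := by
    rw [pow_two, ← QuotientGroup.mk_mul, hs4, QuotientGroup.mk_one]
  obtain ⟨j, hj⟩ := hpg (z : Q)
  have h1 : (z : Q) = 1 := orderOf_eq_one_iff.1 (Nat.eq_one_of_dvd_coprimes
    (Nat.Coprime.pow_right j ((Nat.coprime_primes Nat.prime_two Fact.out).2 hp.symm))
    (orderOf_dvd_of_pow_eq_one hzQ) (orderOf_dvd_of_pow_eq_one hj))
  rw [h1, map_one] at hσz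
  exact hz1 (hρ (by rw [map_one, hσz]))

omit [Finite N] in
theorem exists_order_four [Finite N] {G : Subgroup N} {K : Subgroup G}
    {f : K →* Matrix.SpecialLinearGroup (Fin 2) (ZMod p)} (hp : p ≠ 2)
    (hf : Function.Surjective f) : ∃ s ∈ G, orderOf s = 4 := by
  let w : Matrix.SpecialLinearGroup (Fin 2) (ZMod p) :=
    ⟨!![0, 1; -1, 0], by simp [Matrix.det_fin_two]⟩
  have hw4 : orderOf w = 4 := by
    have hneg : ((w * w : Matrix.SpecialLinearGroup (Fin 2) (ZMod p)) :
        Matrix (Fin 2) (Fin 2) (ZMod p)) = -1 := by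
      rw [Matrix.SpecialLinearGroup.coe_mul]
      ext i j
      fin_cases i <;> fin_cases j <;> simp [w]
    refine orderOf_eq_prime_pow (p := 2) (n := 1) ?_ ?_
    · intro h
      have h' := congrArg (fun x : Matrix.SpecialLinearGroup (Fin 2) (ZMod p) =>
        (x : Matrix (Fin 2) (Fin 2) (ZMod p)) 0 0) h
      simp only [pow_one, pow_two, hneg] at h'
      simp at h'
      have h3 : ((2 : ℕ) : ZMod p) = 0 := by push_cast; linear_combination -h'
      rw [ZMod.natCast_eq_zero_iff] at h3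
      exact hp ((Nat.prime_dvd_prime_iff_eq Fact.out Nat.prime_two).1 h3)
    · apply Subtype.ext
      rw [show (2 : ℕ) ^ (1 + 1) = 2 * 2 from rfl, pow_mul, pow_two, pow_two,
        Matrix.SpecialLinearGroup.coe_mul, hneg]
      simp
  obtain ⟨x, hx⟩ := hf w
  have hdvd : 4 ∣ orderOf x := hw4 ▸ hx ▸ orderOf_map_dvd f x
  refine ⟨(((x ^ (orderOf x / 4) : K) : G) : N), ((x ^ (orderOf x / 4) : K) : G).2, ?_⟩
  rw [Subgroup.orderOf_coe, Subgroup.orderOf_coe, orderOf_pow_orderOf_div (orderOf_pos x).ne' hdvd]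

/-- A group with one involution and no odd normal subgroup, all whose elements of order four are
central, is abelian of two-power order. -/
theorem abelian_of_central_four {K : Type*} [Group K] [Finite K]
    (huniq : ∀ x y : K, orderOf x = 2 → orderOf y = 2 → x = y)
    (hodd : ∀ X : Subgroup K, X.Characteristic → Odd (Nat.card X) → X = ⊥)
    (hfour : ∀ x : K, orderOf x = 4 → ∀ g : K, g * x = x * g) :
    IsPGroup 2 K ∧ IsCyclic K := by
  haveI : Fact (Nat.Prime 2) := ⟨Nat.prime_two⟩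
  obtain ⟨T⟩ : Nonempty (Sylow 2 K) := inferInstance
  have hcyc : IsCyclic T := by
    rcases PGroups.isCyclic_or_quaternion T.2 (fun x y hx hy => by
      have h := huniq x y (by rw [Subgroup.orderOf_coe, hx]) (by rw [Subgroup.orderOf_coe, hy])
      rw [Subtype.ext h]; exact Subgroup.mem_zpowers _) with h | ⟨-, n, hn, ⟨e⟩⟩
    · exact h
    · exfalso
      haveI : NeZero (2 ^ n) := ⟨by positivity⟩
      have ho : orderOf ((e.symm (QuaternionGroup.xa 0) : T) : K) = 4 := by
        rw [Subgroup.orderOf_coe, MulEquiv.orderOf_eq, QuaternionGroup.orderOf_xa]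
      have hcomm := hfour _ ho (e.symm (QuaternionGroup.xa 1) : T)
      have h := congrArg e (Subtype.ext hcomm :
        (e.symm (QuaternionGroup.xa 1) : T) * e.symm (QuaternionGroup.xa 0) =
          e.symm (QuaternionGroup.xa 0) * e.symm (QuaternionGroup.xa 1))
      rw [map_mul, map_mul, e.apply_symm_apply, e.apply_symm_apply, QuaternionGroup.xa_mul_xa,
        QuaternionGroup.xa_mul_xa, QuaternionGroup.a.injEq] at h
      have h' : ((2 : ℕ) : ZMod (2 * 2 ^ n)) = 0 := by
        push_cast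
        linear_combination (norm := ring) -h
      rw [ZMod.natCast_eq_zero_iff] at h'
      have h4 : 4 ≤ 2 * 2 ^ n := by
        have : 2 ^ 1 ≤ 2 ^ n := Nat.pow_le_pow_right two_pos hn
        omega
      exact absurd (Nat.le_of_dvd two_pos h') (by omega)
  by_cases hK : 2 ∣ Nat.card K
  · have hmin : (Nat.card K).minFac = 2 := (Nat.minFac_eq_two_iff _).2 hK
    have hc := IsCyclic.isComplement' hmin hcyc
    set X := (MonoidHom.transferSylow T (hcyc.normalizer_le_centralizer hmin)).ker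
    have hcard := hc.card_mul_card
    have hX : Odd (Nat.card X) := by
      rw [← Nat.not_even_iff_odd, even_iff_two_dvd]
      intro h2
      refine T.not_dvd_index ?_
      have h1 := (T : Subgroup K).index_mul_card
      rw [← hcard] at h1
      rwa [Nat.eq_of_mul_eq_mul_right Nat.card_pos h1]
    have hchar : X.Characteristic := by
      refine Subgroup.characteristic_iff_map_le.2 fun φ => ?_
      rintro _ ⟨x, hx, rfl⟩
      obtain ⟨j, hj⟩ := T.2.exists_card_eq
      have h1 : orderOf ((φ x : K) : K ⧸ X) ∣ 2 ^ j := by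
        rw [← hj, ← hc.symm.index_eq_card, Subgroup.index]
        exact orderOf_dvd_natCard _
      have h2 : orderOf ((φ x : K) : K ⧸ X) ∣ Nat.card X := by
        refine (orderOf_map_dvd (QuotientGroup.mk' X) (φ x)).trans ?_
        rw [MulEquiv.orderOf_eq]
        exact X.orderOf_dvd_natCard hx
      exact (QuotientGroup.eq_one_iff _).1 (orderOf_eq_one_iff.1 (Nat.eq_one_of_dvd_coprimes
        ((Nat.coprime_two_left.2 hX).pow_left j) h1 h2))
    have hXbot := hodd X hchar hX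
    have hT : (T : Subgroup K) = ⊤ := by
      refine Subgroup.eq_top_of_card_eq _ ?_
      rw [← hcard, hXbot, Subgroup.card_bot, one_mul]
    refine ⟨(hT ▸ T.2 : IsPGroup 2 (⊤ : Subgroup K)).of_equiv Subgroup.topEquiv, ?_⟩
    haveI : IsCyclic (⊤ : Subgroup K) := by
      have h : IsCyclic (T : Subgroup K) := hcyc
      rwa [hT] at h
    exact Subgroup.topEquiv.isCyclic.1 inferInstance
  · have hbot := hodd ⊤ Subgroup.topCharacteristic (by
      rw [Subgroup.card_top, ← Nat.not_even_iff_odd, even_iff_two_dvd]; exact hK)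
    haveI : Subsingleton K := Subgroup.subsingleton_iff.1
      (subsingleton_of_bot_eq_top hbot.symm)
    exact ⟨fun x => ⟨0, Subsingleton.elim _ _⟩, isCyclic_of_subsingleton⟩

/-- The elements of `C` fixing the fixed points of `z`. -/
def kerFix (ρ : N →* Matrix ι ι k) (C : Subgroup N) (z : N) : Subgroup N where
  carrier := {g | g ∈ C ∧ Fixes ρ z g}
  one_mem' := ⟨one_mem C, show ρ 1 * _ = _ by rw [map_one, one_mul]⟩
  mul_mem' {g h} hg hh := ⟨mul_mem hg.1 hh.1, show ρ (g * h) * _ = _ by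
    rw [map_mul, mul_assoc, hh.2, hg.2]⟩
  inv_mem' {g} hg := ⟨inv_mem hg.1, show ρ g⁻¹ * _ = _ by
    conv_lhs => rw [← hg.2]
    rw [← mul_assoc, ← map_mul, inv_mul_cancel, map_one, one_mul]⟩

/-- If all involutions of `C` are central in `C`, at least two and conjugate in `N`, and `C` has
no normal subgroup of odd order, then `C` has no non-trivial quadratic element. -/
theorem no_quadratic (hp : p ≠ 2) (ρ : N →* Matrix ι ι k) (hρ : Function.Injective ρ)
    (C : Subgroup N) [C.Normal]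
    (hodd : ∀ X : Subgroup N, X ≤ C → C ≤ Subgroup.normalizer (X : Set N) →
      Odd (Nat.card X) → X = ⊥)
    (hcent : ∀ z ∈ C, orderOf z = 2 → ∀ g ∈ C, g * z = z * g)
    (htrans : ∀ z ∈ C, ∀ z' ∈ C, orderOf z = 2 → orderOf z' = 2 → ∃ n, n * z * n⁻¹ = z')
    (htwo : ∃ z ∈ C, ∃ z' ∈ C, orderOf z = 2 ∧ orderOf z' = 2 ∧ z ≠ z')
    {y : N} (hy : y ∈ C) (hq : (ρ y - 1) * (ρ y - 1) = 0) : y = 1 := by
  by_contra hy1
  haveI : Nonempty ι := by
    rcases isEmpty_or_nonempty ι with h | h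
    · exact absurd (hρ (Subsingleton.elim (ρ y) (ρ 1))) hy1
    · exact h
  have h2 := two_torsion_free (ι := ι) (k := k) hp
  -- kernels
  set K := kerFix ρ C with hKdef
  have hKC : ∀ z, K z ≤ C := fun z g hg => hg.1
  have hKconj : ∀ (n z g : N), g ∈ K z → n * g * n⁻¹ ∈ K (n * z * n⁻¹) := fun n z g hg =>
    ⟨(inferInstance : C.Normal).conj_mem g hg.1 n, Fixes.conj ρ hg.2 n⟩
  have hKnorm : ∀ z ∈ C, orderOf z = 2 → ∀ h ∈ C, ∀ g ∈ K z, h * g * h⁻¹ ∈ K z := by
    intro z hz hz2 h hh g hg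
    have := hKconj h z g hg
    rwa [hcent z hz hz2 h hh, mul_inv_cancel_right] at this
  have hKC' : ∀ z ∈ C, orderOf z = 2 → C ≤ Subgroup.normalizer (K z : Set N) := by
    intro z hz hz2 h hh
    refine Subgroup.mem_normalizer_iff.2 fun g => ⟨hKnorm z hz hz2 h hh g, fun hg => ?_⟩
    have := hKnorm z hz hz2 h⁻¹ (inv_mem hh) _ hg
    simpa [mul_assoc] using this
  have hKuniq : ∀ z ∈ C, orderOf z = 2 → ∀ x ∈ K z, orderOf x = 2 → x = z := by
    intro z hz hz2 x hx hx2
    obtain ⟨n, rfl⟩ := htrans z hz x hx.1 hz2 hx2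
    exact Fixes.eq_of_conj ρ h2 hρ (invol_mul_self hz2) (hcent _ hx.1 hx2 z hz) hx.2
  have hKdisj : ∀ z ∈ C, ∀ z' ∈ C, orderOf z = 2 → orderOf z' = 2 → z ≠ z' →
      ∀ g ∈ K z, ∀ g' ∈ K z', g * g' = g' * g := by
    intro z hz z' hz' hz2 hz2' hne g hg g' hg'
    have hbot : K z ⊓ K z' = ⊥ := by
      refine hodd _ (inf_le_left.trans (hKC z)) ?_ ((odd_card_iff_no_invol _).2 fun t ht ht2 =>
        hne ((hKuniq z hz hz2 t ht.1 ht2).symm.trans (hKuniq z' hz' hz2' t ht.2 ht2)))
      intro h hh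
      refine Subgroup.mem_normalizer_iff.2 fun x => ?_
      simp only [Subgroup.mem_inf]
      exact and_congr (Subgroup.mem_normalizer_iff.1 (hKC' z hz hz2 hh) x)
        (Subgroup.mem_normalizer_iff.1 (hKC' z' hz' hz2' hh) x)
    have hmem : g * g' * g⁻¹ * g'⁻¹ ∈ K z ⊓ K z' := by
      refine Subgroup.mem_inf.2 ⟨?_, mul_mem (hKnorm z' hz' hz2' g hg.1 g' hg') (inv_mem hg')⟩
      have e : g * g' * g⁻¹ * g'⁻¹ = g * (g' * g⁻¹ * g'⁻¹) := by group
      rw [e]
      exact mul_mem hg (hKnorm z hz hz2 g' hg'.1 _ (inv_mem hg))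
    rw [hbot, Subgroup.mem_bot] at hmem
    calc g * g' = g * g' * g⁻¹ * g'⁻¹ * (g' * g) := by group
      _ = g' * g := by rw [hmem, one_mul]
  -- a non-central element of order four in some kernel
  obtain ⟨s₀, z₀, hz₀C, hz₀2, hs₀K, hs₀4, g₀, hg₀K, hne⟩ : ∃ s z : N, z ∈ C ∧ orderOf z = 2 ∧
      s ∈ K z ∧ orderOf s = 4 ∧ ∃ g ∈ K z, g * s ≠ s * g := by
    have hpow : ∀ x : N, (ρ x - 1) * (ρ x - 1) = 0 → x ^ p = 1 := fun x hx => by
      apply hρ
      have h := sub_pow_char_of_commute (p := p) (Commute.one_right (ρ x))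
      have hz : (ρ x - 1) ^ p = 0 :=
        pow_eq_zero_of_le (Fact.out : p.Prime).two_le ((sq _).trans hx)
      rw [one_pow, hz] at h
      rw [map_pow, map_one]
      exact sub_eq_zero.1 h.symm
    -- a pair not generating a `p`-group
    obtain ⟨h, hh, hnp⟩ : ∃ h ∈ C, ¬ IsPGroup p (Subgroup.closure ({y, h * y * h⁻¹} : Set N)) := by
      by_contra hall
      push Not at hall
      obtain ⟨X, hX, hXp, hyX⟩ := Involutions.BaerSuzuki.baer_suzuki_elem (p := p)
        (x := (⟨y, hy⟩ : C))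
        (IsPGroup.of_card_dvd_pow (n := 1) (by
          rw [Nat.card_zpowers, pow_one]
          exact orderOf_dvd_of_pow_eq_one (Subtype.ext (hpow y hq))))
        (fun g => by
          refine IsPGroup.comap_of_injective (hall g g.2) C.subtype C.subtype_injective
            |>.to_le ?_
          rw [← Subgroup.map_le_iff_le_comap, MonoidHom.map_closure, Set.image_pair]
          exact le_rfl)
      obtain ⟨j, hj⟩ := hXp.exists_card_eq
      have hb : X.map C.subtype = ⊥ := by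
        refine hodd _ (Subgroup.map_subtype_le X) ?_ ?_
        · have := Subgroup.le_normalizer_map (H := X) C.subtype
          rwa [Subgroup.normalizer_eq_top_iff.2 hX, ← MonoidHom.range_eq_map,
            Subgroup.range_subtype] at this
        · rw [Subgroup.card_map_of_injective C.subtype_injective, hj]
          exact ((Fact.out : p.Prime).odd_of_ne_two hp).pow
      have hmem : y ∈ X.map C.subtype := ⟨⟨y, hy⟩, hyX, rfl⟩
      rw [hb, Subgroup.mem_bot] at hmem
      exact hy1 hmem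
    set b := h * y * h⁻¹ with hb
    set G₁ := Subgroup.closure ({y, b} : Set N) with hG₁
    have hyG : y ∈ G₁ := Subgroup.subset_closure (Or.inl rfl)
    have hbG : b ∈ G₁ := Subgroup.subset_closure (Or.inr rfl)
    have hbC : b ∈ C := (inferInstance : C.Normal).conj_mem y hy h
    have hG₁C : G₁ ≤ C := (Subgroup.closure_le C).2 (Set.pair_subset hy hbC)
    have hbq : (ρ b - 1) * (ρ b - 1) = 0 := by
      have e : ρ b - 1 = ρ h * (ρ y - 1) * ρ h⁻¹ := by
        rw [mul_sub, sub_mul, mul_one, ← map_mul, ← map_mul, ← map_mul, mul_inv_cancel, map_one]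
      have hh' : ρ h⁻¹ * ρ h = 1 := by rw [← map_mul, inv_mul_cancel, map_one]
      rw [e]
      calc ρ h * (ρ y - 1) * ρ h⁻¹ * (ρ h * (ρ y - 1) * ρ h⁻¹)
          = ρ h * ((ρ y - 1) * (ρ h⁻¹ * ρ h) * (ρ y - 1)) * ρ h⁻¹ := by noncomm_ring
        _ = 0 := by rw [hh', mul_one, hq, mul_zero, zero_mul]
    set σ : G₁ →* Matrix ι ι k := ρ.comp G₁.subtype
    have hσ : Function.Injective σ := hρ.comp G₁.subtype_injective
    have hgen : Subgroup.closure ({⟨y, hyG⟩, ⟨b, hbG⟩} : Set G₁) = ⊤ := by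
      apply Subgroup.map_injective G₁.subtype_injective
      rw [MonoidHom.map_closure, Set.image_pair, ← MonoidHom.range_eq_map, Subgroup.range_subtype]
      rfl
    obtain ⟨L, f, hf⟩ := exists_surjection hp σ hσ hgen hq hbq hnp
    obtain ⟨s, hsG, hs4⟩ := exists_order_four hp hf
    set z := s * s with hz
    have hz2 : orderOf z = 2 := by
      rw [hz, ← pow_two, orderOf_pow' s two_ne_zero, hs4]
      rfl
    have hsC := hG₁C hsG
    have hzC : z ∈ C := mul_mem hsC hsC
    have hsK' : ∀ g ∈ G₁, s⁻¹ * g⁻¹ * s * g ∈ K z := by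
      intro g hg
      refine ⟨mul_mem (mul_mem (mul_mem (inv_mem hsC) (inv_mem (hG₁C hg))) hsC) (hG₁C hg), ?_⟩
      have h1 := Trace.commute_add_inv σ hgen hq hbq ⟨s, hsG⟩ ⟨g, hg⟩
      change (ρ s + ρ s⁻¹) * ρ g = ρ g * (ρ s + ρ s⁻¹) at h1
      have hs' : ρ s⁻¹ = ρ s * ρ z := by
        rw [← map_mul]
        congr 1
        refine inv_eq_of_mul_eq_one_right ?_
        rw [hz, ← mul_assoc]
        exact invol_mul_self hz2
      have hgz : ρ z * ρ g = ρ g * ρ z := by
        rw [← map_mul, ← map_mul, hcent z hzC hz2 g (hG₁C hg)]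
      have e : ρ s + ρ s⁻¹ = ρ s * (1 + ρ z) := by rw [hs', mul_add, mul_one]
      have hgz' : (1 + ρ z) * ρ g = ρ g * (1 + ρ z) := by
        rw [add_mul, mul_add, one_mul, mul_one, hgz]
      rw [e, mul_assoc, hgz', ← mul_assoc, ← mul_assoc, ← map_mul, ← map_mul] at h1
      show ρ (s⁻¹ * g⁻¹ * s * g) * (1 + ρ z) = 1 + ρ z
      rw [show s⁻¹ * g⁻¹ * s * g = (g * s)⁻¹ * (s * g) by group, map_mul, mul_assoc, h1,
        ← mul_assoc, ← map_mul, inv_mul_cancel, map_one, one_mul]
    by_contra hcon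
    push Not at hcon
    obtain ⟨hK2, hKcyc⟩ := abelian_of_central_four (K := K z)
      (fun u v hu hv => Subtype.ext (((hKuniq z hzC hz2 u u.2 (by rw [Subgroup.orderOf_coe, hu])).trans
        (hKuniq z hzC hz2 v v.2 (by rw [Subgroup.orderOf_coe, hv])).symm)))
      (fun X hX hXodd => by
        have hb : X.map (K z).subtype = ⊥ := by
          refine hodd _ ((Subgroup.map_subtype_le X).trans (hKC z)) ?_ (by
            rwa [Subgroup.card_map_of_injective (K z).subtype_injective])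
          intro c hc
          have hcN := hKC' z hzC hz2 hc
          refine Subgroup.mem_normalizer_iff_map_conj_eq.2 (Subgroup.eq_of_le_of_card_ge ?_
            (le_of_eq (Subgroup.card_map_of_injective (MulAut.conj c).injective).symm))
          rintro _ ⟨_, ⟨x, hx, rfl⟩, rfl⟩
          exact ⟨(K z).normalizerMonoidHom ⟨c, hcN⟩ x,
            Subgroup.characteristic_iff_map_le.1 hX _ ⟨x, hx, rfl⟩, rfl⟩
        exact (Subgroup.map_eq_bot_iff_of_injective _ (K z).subtype_injective).1 hb)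
      (fun x hx g => Subtype.ext
        (hcon (x : N) z hzC hz2 x.2 (by rw [Subgroup.orderOf_coe, hx]) g g.2))
    -- the kernel is centralised by the generators
    have hcomm : ∀ c ∈ ({y, b} : Set N), c * s = s * c := by
      intro c hc
      have hcC : c ∈ C := by rcases hc with rfl | rfl; exacts [hy, hbC]
      have hcG : c ∈ G₁ := Subgroup.subset_closure hc
      have hcp : c ^ p = 1 := by rcases hc with rfl | rfl; exacts [hpow _ hq, hpow _ hbq]
      set φ := (K z).normalizerMonoidHom ⟨c, hKC' z hzC hz2 hcC⟩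
      have hφ : φ = 1 := by
        refine orderOf_eq_one_iff.1 (Nat.eq_one_of_dvd_coprimes (k := orderOf φ) ?_
          (orderOf_dvd_of_pow_eq_one (x := φ) (n := p) ?_) (orderOf_dvd_natCard φ))
        · rw [IsCyclic.card_mulAut]
          obtain ⟨j, hj⟩ := hK2.exists_card_eq
          rw [hj]
          rcases j with _ | j
          · simp
          · rw [Nat.totient_prime_pow Nat.prime_two (Nat.succ_pos j)]
            simp only [Nat.add_one_sub_one, mul_one]
            exact Nat.Coprime.pow_right _ ((Nat.coprime_primes Fact.out Nat.prime_two).2 hp)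
        · rw [← map_pow]
          convert map_one (K z).normalizerMonoidHom
          exact Subtype.ext hcp
      set x := s⁻¹ * c⁻¹ * s * c with hx
      have hxK : x ∈ K z := hsK' c hcG
      have hcx : Commute c⁻¹ x := by
        have h := congrArg (fun ψ : MulAut (K z) => ((ψ ⟨x, hxK⟩ : K z) : N)) hφ
        have h' : c * x * c⁻¹ = x := h
        exact Commute.inv_left (mul_inv_eq_iff_eq_mul.1 h')
      have hxp : x ^ p = 1 := by
        have e : s⁻¹ * c⁻¹ * s = x * c⁻¹ := by rw [hx, mul_inv_cancel_right]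
        have h := congrArg (· ^ p) e
        rw [hcx.symm.mul_pow, inv_pow, hcp, inv_one, mul_one,
          show s⁻¹ * c⁻¹ * s = s⁻¹ * c⁻¹ * s⁻¹⁻¹ by rw [inv_inv], conj_pow, inv_pow, hcp,
          inv_one, mul_one, inv_inv, inv_mul_cancel] at h
        exact h.symm
      obtain ⟨j, hj⟩ := hK2 ⟨x, hxK⟩
      have hj' : x ^ 2 ^ j = 1 := congrArg Subtype.val hj
      have hx1 : x = 1 := orderOf_eq_one_iff.1 (Nat.eq_one_of_dvd_coprimes
        (Nat.Coprime.pow_right j ((Nat.coprime_primes Fact.out Nat.prime_two).2 hp))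
        (orderOf_dvd_of_pow_eq_one hxp) (orderOf_dvd_of_pow_eq_one hj'))
      calc c * s = c * s * x := by rw [hx1, mul_one]
        _ = s * c := by rw [hx]; group
    obtain ⟨g, hg⟩ := not_central_of_pair (Γ := G₁) hp σ hσ hgen hq hbq (s := ⟨s, hsG⟩)
      (by rw [Subgroup.orderOf_mk, hs4])
    refine hg (Subtype.ext ?_)
    show (g : N) * s = s * g
    have : G₁ ≤ Subgroup.centralizer {s} := (Subgroup.closure_le _).2 fun c hc =>
      Subgroup.mem_centralizer_singleton_iff.2 (hcomm c hc)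
    exact Subgroup.mem_centralizer_singleton_iff.1 (this g.2)
  -- three of them
  have hfam : ∀ z ∈ C, orderOf z = 2 → ∃ t ∈ K z, t * t = z ∧ ∃ g ∈ K z, g * t ≠ t * g := by
    intro z hz hz2
    obtain ⟨n, rfl⟩ := htrans z₀ hz₀C z hz hz₀2 hz2
    refine ⟨n * s₀ * n⁻¹, hKconj n _ _ hs₀K, ?_, n * g₀ * n⁻¹, hKconj n _ _ hg₀K, fun h => hne ?_⟩
    · have hss : orderOf (s₀ * s₀) = 2 := by
        rw [← pow_two, orderOf_pow' s₀ two_ne_zero, hs₀4]
        rfl
      calc n * s₀ * n⁻¹ * (n * s₀ * n⁻¹) = n * (s₀ * s₀) * n⁻¹ := by group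
        _ = n * z₀ * n⁻¹ := by rw [hKuniq z₀ hz₀C hz₀2 _ (mul_mem hs₀K hs₀K) hss]
    · have h' := congrArg (fun x => n⁻¹ * x * n) h
      simpa [mul_assoc] using h'
  obtain ⟨z₁, hz₁, z₂, hz₂, h₁2, h₂2, h12⟩ := htwo
  have hz12 := hcent z₂ hz₂ h₂2 z₁ hz₁
  have hz₃ : z₁ * z₂ ∈ C := mul_mem hz₁ hz₂
  have h₃2 : orderOf (z₁ * z₂) = 2 := invol_iff.2 ⟨by
    calc z₁ * z₂ * (z₁ * z₂) = z₁ * z₁ * (z₂ * z₂) := by
          rw [mul_assoc z₁ z₂, ← mul_assoc z₂ z₁, ← hz12]; group
      _ = 1 := by rw [invol_mul_self h₁2, invol_mul_self h₂2, mul_one],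
    fun h => h12 ((eq_inv_of_mul_eq_one_left h).trans (invol_inv h₂2))⟩
  have h13 : z₁ ≠ z₁ * z₂ := fun h => invol_ne_one h₂2 (left_eq_mul.1 h)
  have h23 : z₂ ≠ z₁ * z₂ := fun h => invol_ne_one h₁2 (right_eq_mul.1 h)
  obtain ⟨t₁, ht₁, e₁, g, hg, hgt⟩ := hfam z₁ hz₁ h₁2
  obtain ⟨t₂, ht₂, e₂, -⟩ := hfam z₂ hz₂ h₂2
  obtain ⟨t₃, ht₃, e₃, -⟩ := hfam _ hz₃ h₃2
  have c12 := hKdisj _ hz₁ _ hz₂ h₁2 h₂2 h12 t₁ ht₁ t₂ ht₂
  have c13 := hKdisj _ hz₁ _ hz₃ h₁2 h₃2 h13 t₁ ht₁ t₃ ht₃
  have c23 := hKdisj _ hz₂ _ hz₃ h₂2 h₃2 h23 t₂ ht₂ t₃ ht₃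
  have hsq : t₁ * t₂ * t₃ * (t₁ * t₂ * t₃) = 1 := by
    have ha : Commute (t₁ * t₂) t₃ := Commute.mul_left c13 c23
    rw [← pow_two, ha.mul_pow, (show Commute t₁ t₂ from c12).mul_pow, pow_two, pow_two, pow_two,
      e₁, e₂, e₃, invol_mul_self h₃2]
  have hcg : g * (t₁ * t₂ * t₃) = t₁ * t₂ * t₃ * g := by
    by_cases h1 : t₁ * t₂ * t₃ = 1
    · rw [h1, mul_one, one_mul]
    · exact hcent _ (mul_mem (mul_mem ht₁.1 ht₂.1) ht₃.1) (invol_iff.2 ⟨hsq, h1⟩) g hg.1
  have cg2 : Commute g t₂ := hKdisj _ hz₁ _ hz₂ h₁2 h₂2 h12 g hg t₂ ht₂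
  have cg3 : Commute g t₃ := hKdisj _ hz₁ _ hz₃ h₁2 h₃2 h13 g hg t₃ ht₃
  refine hgt ?_
  have h := Commute.mul_right (Commute.mul_right (show Commute g (t₁ * t₂ * t₃) from hcg)
    cg3.inv_right) cg2.inv_right
  rwa [show t₁ * t₂ * t₃ * t₃⁻¹ * t₂⁻¹ = t₁ by group] at h

end Main

/-- The same inside a group, on an elementary abelian subgroup `V` normalised faithfully by `H`. -/
theorem no_quadratic_group {G : Type*} [Group G] [Finite G] {p : ℕ} [Fact p.Prime] (hp : p ≠ 2)
    {V H C : Subgroup G} (hV : Cfsg.IsElementaryAbelian p V)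
    (hHV : H ≤ Subgroup.normalizer (V : Set G))
    (hf : H ⊓ Subgroup.centralizer (V : Set G) = ⊥)
    (hCH : C ≤ H) (hHC : H ≤ Subgroup.normalizer (C : Set G))
    (hodd : ∀ X : Subgroup G, X ≤ C → C ≤ Subgroup.normalizer (X : Set G) →
      Odd (Nat.card X) → X = ⊥)
    (hcent : ∀ z ∈ C, orderOf z = 2 → ∀ g ∈ C, g * z = z * g)
    (htrans : ∀ z ∈ C, ∀ z' ∈ C, orderOf z = 2 → orderOf z' = 2 → ∃ n ∈ H, n * z * n⁻¹ = z')
    (htwo : ∃ z ∈ C, ∃ z' ∈ C, orderOf z = 2 ∧ orderOf z' = 2 ∧ z ≠ z')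
    {y : G} (hy : y ∈ C) (hq : Quad V y) : y = 1 := by
  obtain ⟨n, ρ, hker, hquad, -⟩ := exists_rep hV hHV
  have hρ : Function.Injective ρ := by
    intro a b h
    have h1 : ρ (a⁻¹ * b) = 1 := by rw [map_mul, ← h, ← map_mul, inv_mul_cancel, map_one]
    have h2 : ((a⁻¹ * b : H) : G) ∈ H ⊓ Subgroup.centralizer (V : Set G) :=
      ⟨(a⁻¹ * b).2, (hker _).1 h1⟩
    rw [hf, Subgroup.mem_bot] at h2
    exact inv_mul_eq_one.1 (Subtype.ext h2)
  haveI : (C.subgroupOf H).Normal := ⟨fun c hc h => Subgroup.mem_subgroupOf.2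
    ((Subgroup.mem_normalizer_iff.1 (hHC h.2) _).1 (Subgroup.mem_subgroupOf.1 hc))⟩
  refine congrArg Subtype.val (no_quadratic hp ρ hρ (C.subgroupOf H) (fun X hX hCX hXodd => ?_)
    ?_ ?_ ?_ (y := ⟨y, hCH hy⟩) (Subgroup.mem_subgroupOf.2 hy) (hquad _ hq) :
    (⟨y, hCH hy⟩ : H) = 1)
  · have h := hodd (X.map H.subtype) ?_ ?_ (by
      rwa [Subgroup.card_map_of_injective H.subtype_injective])
    · exact (Subgroup.map_eq_bot_iff_of_injective _ H.subtype_injective).1 h
    · rintro _ ⟨x, hx, rfl⟩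
      exact hX hx
    · intro c hc
      exact Subgroup.le_normalizer_map H.subtype ⟨⟨c, hCH hc⟩, hCX hc, rfl⟩
  · intro z hz hz2 g hg
    exact Subtype.ext (hcent _ hz (by rw [Subgroup.subtype_apply, Subgroup.orderOf_coe, hz2]) _ hg)
  · intro z hz z' hz' hz2 hz2'
    obtain ⟨m, hm, h⟩ := htrans _ hz _ hz' (by rw [Subgroup.subtype_apply, Subgroup.orderOf_coe, hz2])
      (by rw [Subgroup.subtype_apply, Subgroup.orderOf_coe, hz2'])
    exact ⟨⟨m, hm⟩, Subtype.ext h⟩
  · obtain ⟨z, hz, z', hz', hz2, hz2', hne⟩ := htwo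
    exact ⟨⟨z, hCH hz⟩, hz, ⟨z', hCH hz'⟩, hz', by rw [Subgroup.orderOf_mk, hz2],
      by rw [Subgroup.orderOf_mk, hz2'], fun h => hne (congrArg Subtype.val h)⟩

end Cfsg.Agent.Lib.BenderOne83
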