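import Cfsg.Agent.Lib.Quadratic.Pair

/-!
# Two quadratic generators: the trace element

Let `a`, `b` generate a finite group of units of a ring with `(a - 1)^2 = (b - 1)^2 = 0`.  Then
every element of the group plus its inverse commutes with the group, and a central element `s`
of the group has `s^2 = 1` away from the part where the group is a `p`-group.
-/

set_option autoImplicit false

namespace Cfsg.Agent.Lib.BenderOne83.Trace

open Cfsg.Agent.Lib.Quadratic

variable {R : Type*} [Ring R]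

/-- The elements commuting with `u` and `w`. -/
abbrev cent (u w : R) : Subring R := Subring.centralizer {u, w}

theorem mem_cent {u w x : R} : x ∈ cent u w ↔ u * x = x * u ∧ w * x = x * w := by
  simp [cent, Subring.mem_centralizer_iff]

theorem trace_mem_cent {u w : R} (hu : u * u = 0) (hw : w * w = 0) :
    u * w + w * u ∈ cent u w := by
  refine mem_cent.2 ⟨?_, ?_⟩ <;> simp only [mul_add, add_mul] <;>
    simp only [← mul_assoc, hu, hw, zero_mul, zero_add, add_zero] <;>
    simp only [mul_assoc, hu, hw, mul_zero, zero_add, add_zero]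

/-- The normal form of an element and of its inverse. -/
def Form (u w g g' : R) : Prop :=
  ∃ x₀ ∈ cent u w, ∃ x₁ ∈ cent u w, ∃ x₂ ∈ cent u w, ∃ x₃ ∈ cent u w,
    g = x₀ + x₁ * u + x₂ * w + x₃ * (u * w) ∧ g' = x₀ - x₁ * u - x₂ * w + x₃ * (w * u)

theorem form_mul_left_gen {u w g g' : R} (hu : u * u = 0) (hw : w * w = 0) (h : Form u w g g') :
    Form u w (g * (1 + u)) ((1 - u) * g') := by
  obtain ⟨x₀, h0, x₁, h1, x₂, h2, x₃, h3, rfl, rfl⟩ := h
  have hc := trace_mem_cent hu hw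
  refine ⟨x₀ + x₂ * (u * w + w * u), add_mem h0 (mul_mem h2 hc),
    x₀ + x₁ + x₃ * (u * w + w * u), add_mem (add_mem h0 h1) (mul_mem h3 hc), x₂, h2,
    x₃ - x₂, sub_mem h3 h2, ?_, ?_⟩
  · simp only [mul_add, add_mul, sub_mul, mul_one, mul_assoc, hu, mul_zero, add_zero]
    abel
  · have e0 := (mem_cent.1 h0).1
    have e1 := (mem_cent.1 h1).1
    have e2 := (mem_cent.1 h2).1
    have e3 := (mem_cent.1 h3).1
    simp only [sub_mul, mul_sub, mul_add, one_mul, ← mul_assoc, e0, e1, e2, e3, add_mul]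
    simp only [mul_assoc, hu, mul_zero, add_zero, sub_zero]
    abel

theorem form_mul_right_gen {u w g g' : R} (hw : w * w = 0) (h : Form u w g g') :
    Form u w (g * (1 + w)) ((1 - w) * g') := by
  obtain ⟨x₀, h0, x₁, h1, x₂, h2, x₃, h3, rfl, rfl⟩ := h
  refine ⟨x₀, h0, x₁, h1, x₀ + x₂, add_mem h0 h2, x₁ + x₃, add_mem h1 h3, ?_, ?_⟩
  · simp only [mul_add, add_mul, mul_one, mul_assoc, hw, mul_zero, add_zero]
    abel
  · have e0 := (mem_cent.1 h0).2
    have e1 := (mem_cent.1 h1).2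
    have e2 := (mem_cent.1 h2).2
    have e3 := (mem_cent.1 h3).2
    simp only [sub_mul, mul_sub, mul_add, one_mul, ← mul_assoc, e0, e1, e2, e3, add_mul]
    simp only [mul_assoc, hw, mul_zero, sub_zero]
    simp only [← mul_assoc, zero_mul]
    abel

variable {Γ : Type*} [Group Γ] [Finite Γ] (ρ : Γ →* R) {a b : Γ}

/-- Every element of the group has the normal form. -/
theorem exists_form (hgen : Subgroup.closure {a, b} = ⊤) (hu : (ρ a - 1) * (ρ a - 1) = 0)
    (hw : (ρ b - 1) * (ρ b - 1) = 0) (g : Γ) : Form (ρ a - 1) (ρ b - 1) (ρ g) (ρ g⁻¹) := by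
  have hinv : ∀ x : Γ, (ρ x - 1) * (ρ x - 1) = 0 → ρ x⁻¹ = 1 - (ρ x - 1) := by
    intro x hx
    have h1 : ρ x * (1 - (ρ x - 1)) = 1 := by
      have e : ρ x * (1 - (ρ x - 1)) = 1 - (ρ x - 1) * (ρ x - 1) := by noncomm_ring
      rw [e, hx, sub_zero]
    calc ρ x⁻¹ = ρ x⁻¹ * (ρ x * (1 - (ρ x - 1))) := by rw [h1, mul_one]
      _ = 1 - (ρ x - 1) := by rw [← mul_assoc, ← map_mul, inv_mul_cancel, map_one, one_mul]
  have hg : g ∈ (Subgroup.closure ({a, b} : Set Γ)).toSubmonoid := by simp [hgen]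
  rw [Subgroup.closure_toSubmonoid_of_finite] at hg
  induction hg using Submonoid.closure_induction_right with
  | one =>
    exact ⟨1, one_mem _, 0, zero_mem _, 0, zero_mem _, 0, zero_mem _, by simp, by simp⟩
  | mul_right x hx y hy ih =>
    rcases hy with rfl | rfl
    · have := form_mul_left_gen hu hw ih
      rwa [← hinv _ hu, ← map_mul, ← mul_inv_rev, add_sub_cancel, ← map_mul] at this
    · have := form_mul_right_gen hw ih
      rwa [← hinv _ hw, ← map_mul, ← mul_inv_rev, add_sub_cancel, ← map_mul] at this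

/-- An element plus its inverse commutes with the whole group. -/
theorem commute_add_inv (hgen : Subgroup.closure {a, b} = ⊤) (hu : (ρ a - 1) * (ρ a - 1) = 0)
    (hw : (ρ b - 1) * (ρ b - 1) = 0) (g h : Γ) :
    (ρ g + ρ g⁻¹) * ρ h = ρ h * (ρ g + ρ g⁻¹) := by
  obtain ⟨x₀, h0, x₁, -, x₂, -, x₃, h3, e1, e2⟩ := exists_form ρ hgen hu hw g
  have hmem : ρ g + ρ g⁻¹ ∈ cent (ρ a - 1) (ρ b - 1) := by
    have e : ρ g + ρ g⁻¹ = x₀ + x₀ +
        x₃ * ((ρ a - 1) * (ρ b - 1) + (ρ b - 1) * (ρ a - 1)) := by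
      rw [e1, e2]
      generalize ρ a - 1 = u, ρ b - 1 = w
      simp only [mul_add]
      abel
    rw [e]
    exact add_mem (add_mem h0 h0) (mul_mem h3 (trace_mem_cent hu hw))
  obtain ⟨hxu, hxw⟩ := mem_cent.1 hmem
  obtain ⟨y₀, g0, y₁, g1, y₂, g2, y₃, g3, f1, -⟩ := exists_form ρ hgen hu hw h
  set x := ρ g + ρ g⁻¹
  have key : ∀ z : Γ, z ∈ (Subgroup.closure ({a, b} : Set Γ)).toSubmonoid →
      x * ρ z = ρ z * x := by
    intro z hz
    rw [Subgroup.closure_toSubmonoid_of_finite] at hz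
    induction hz using Submonoid.closure_induction with
    | mem y hy =>
      rw [sub_mul, one_mul, mul_sub, mul_one, sub_left_inj] at hxu hxw
      rcases hy with rfl | rfl
      exacts [hxu.symm, hxw.symm]
    | one => rw [map_one, one_mul, mul_one]
    | mul y z _ _ iy iz => rw [map_mul, ← mul_assoc, iy, mul_assoc, iz, mul_assoc]
  exact key h (by simp [hgen])

/-- A central element differs from its inverse only where the trace element squares to zero. -/
theorem trace_sq_mul_sub (hgen : Subgroup.closure {a, b} = ⊤) (hu : (ρ a - 1) * (ρ a - 1) = 0)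
    (hw : (ρ b - 1) * (ρ b - 1) = 0) {s : Γ} (hs : ∀ g, g * s = s * g)
    (h2 : ∀ x : R, x + x = 0 → x = 0) :
    ((ρ a - 1) * (ρ b - 1) + (ρ b - 1) * (ρ a - 1)) ^ 2 * (ρ s - ρ s⁻¹) = 0 := by
  have hcu : ∀ z : Γ, (∀ g, g * z = z * g) → (ρ a - 1) * ρ z = ρ z * (ρ a - 1) ∧
      (ρ b - 1) * ρ z = ρ z * (ρ b - 1) := fun z hz => by
    constructor <;> rw [sub_mul, mul_sub, one_mul, mul_one, ← map_mul, ← map_mul, hz]
  obtain ⟨x₀, -, x₁, h1, x₂, h2', x₃, h3, e1, e2⟩ := exists_form ρ hgen hu hw s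
  obtain ⟨su, sw⟩ := hcu s hs
  obtain ⟨iu, iw⟩ := hcu s⁻¹ fun g => by
    have := hs g
    calc g * s⁻¹ = s⁻¹ * (s * g) * s⁻¹ := by group
      _ = s⁻¹ * (g * s) * s⁻¹ := by rw [this]
      _ = s⁻¹ * g := by group
  generalize ρ a - 1 = u at *
  generalize ρ b - 1 = w at *
  set A := x₁ + x₁
  set B := x₂ + x₂
  set C := x₃
  have hA : A ∈ cent u w := add_mem h1 h1
  have hB : B ∈ cent u w := add_mem h2' h2'
  have hD : ρ s - ρ s⁻¹ = A * u + B * w + C * (u * w - w * u) := by
    rw [e1, e2]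
    simp only [A, B, C, add_mul, mul_sub]
    abel
  clear_value A B
  obtain ⟨Au, Aw⟩ := mem_cent.1 hA
  obtain ⟨Bu, Bw⟩ := mem_cent.1 hB
  obtain ⟨Cu, Cw⟩ := mem_cent.1 h3
  set c := u * w + w * u with hc
  obtain ⟨cu, cw⟩ := mem_cent.1 (trace_mem_cent hu hw)
  rw [← hc] at cu cw
  have huwu : u * w * u = c * u := by rw [hc, add_mul, mul_assoc w u u, hu, mul_zero, add_zero]
  have hwuw : w * u * w = c * w := by
    rw [hc, add_mul, mul_assoc u w w, hw, mul_zero, zero_add]
  have Du : u * (ρ s - ρ s⁻¹) = (ρ s - ρ s⁻¹) * u := by rw [mul_sub, sub_mul, su, iu]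
  have Dw : w * (ρ s - ρ s⁻¹) = (ρ s - ρ s⁻¹) * w := by rw [mul_sub, sub_mul, sw, iw]
  rw [hD] at Du Dw
  have i1 : B * (u * w - w * u) = (C + C) * (c * u) := by
    have l : u * (A * u + B * w + C * (u * w - w * u)) = B * (u * w) - C * (c * u) := by
      rw [mul_add, mul_add, ← mul_assoc u A, Au, ← mul_assoc u B, Bu, ← mul_assoc u C, Cu,
        mul_assoc A, hu, mul_zero, zero_add, mul_assoc B, mul_assoc C, mul_sub u, ← mul_assoc u u,
        hu, zero_mul, ← mul_assoc u w u, huwu, zero_sub, mul_neg, sub_eq_add_neg]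
    have r : (A * u + B * w + C * (u * w - w * u)) * u = B * (w * u) + C * (c * u) := by
      rw [add_mul, add_mul, mul_assoc A, hu, mul_zero, zero_add, mul_assoc B, mul_assoc C,
        sub_mul, mul_assoc w u u, hu, mul_zero, sub_zero, huwu]
    rw [l, r] at Du
    rw [sub_eq_iff_eq_add] at Du
    rw [mul_sub, add_mul, sub_eq_iff_eq_add, Du]
    abel
  have i2 : A * (u * w - w * u) = (C + C) * (c * w) := by
    have l : w * (A * u + B * w + C * (u * w - w * u)) = A * (w * u) + C * (c * w) := by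
      rw [mul_add, mul_add, ← mul_assoc w A, Aw, ← mul_assoc w B, Bw, ← mul_assoc w C, Cw,
        mul_assoc B, hw, mul_zero, add_zero, mul_assoc A, mul_assoc C, mul_sub w, ← mul_assoc w w,
        hw, zero_mul, sub_zero, ← mul_assoc w u w, hwuw]
    have r : (A * u + B * w + C * (u * w - w * u)) * w = A * (u * w) - C * (c * w) := by
      rw [add_mul, add_mul, mul_assoc B, hw, mul_zero, add_zero, mul_assoc A, mul_assoc C,
        sub_mul, mul_assoc u w w, hw, mul_zero, zero_sub, hwuw, mul_neg, sub_eq_add_neg]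
    rw [l, r] at Dw
    rw [eq_sub_iff_add_eq] at Dw
    rw [mul_sub, add_mul, sub_eq_iff_eq_add, ← Dw]
    abel
  -- consequences
  have huX : u * (u * w - w * u) = -(c * u) := by
    rw [mul_sub, ← mul_assoc, hu, zero_mul, ← mul_assoc, huwu, zero_sub]
  have hwX : w * (u * w - w * u) = c * w := by
    rw [mul_sub, ← mul_assoc w w, hw, zero_mul, sub_zero, ← mul_assoc, hwuw]
  have hBcu : B * (c * u) = 0 := by
    have h := congrArg (u * ·) i1
    rw [← mul_assoc u B, Bu, mul_assoc, huX, mul_neg, ← mul_assoc u, mul_add u, Cu,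
      ← add_mul, mul_assoc, ← mul_assoc u c, cu, mul_assoc c, hu, mul_zero, mul_zero,
      neg_eq_zero] at h
    exact h
  have hAcw : A * (c * w) = 0 := by
    have h := congrArg (w * ·) i2
    rw [← mul_assoc w A, Aw, mul_assoc, hwX, ← mul_assoc w, mul_add w, Cw, ← add_mul, mul_assoc,
      ← mul_assoc w c, cw, mul_assoc c, hw, mul_zero, mul_zero] at h
    exact h
  have hBcwu : B * (c * (w * u)) = 0 := by
    have h := congrArg (w * ·) hBcu
    rwa [mul_zero, ← mul_assoc w B, Bw, mul_assoc B, ← mul_assoc w c, cw, mul_assoc c] at h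
  have hBcuw : B * (c * (u * w)) = 0 := by
    have h := congrArg (· * w) hBcu
    rwa [zero_mul, mul_assoc, mul_assoc] at h
  have hAcuw : A * (c * (u * w)) = 0 := by
    have h := congrArg (u * ·) hAcw
    rwa [mul_zero, ← mul_assoc u A, Au, mul_assoc A, ← mul_assoc u c, cu, mul_assoc c] at h
  have hAcwu : A * (c * (w * u)) = 0 := by
    have h := congrArg (· * u) hAcw
    rwa [zero_mul, mul_assoc, mul_assoc] at h
  have hAc : A * (c * c) = 0 := by
    nth_rewrite 2 [hc]
    rw [mul_add, mul_add, hAcuw, hAcwu, add_zero]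
  have hBc : B * (c * c) = 0 := by
    nth_rewrite 2 [hc]
    rw [mul_add, mul_add, hBcuw, hBcwu, add_zero]
  have cB : c * B = B * c := by
    rw [hc, add_mul, mul_add, mul_assoc u, Bw, ← mul_assoc u, Bu, mul_assoc B, mul_assoc w, Bu,
      ← mul_assoc w, Bw, mul_assoc B]
  have cA : c * A = A * c := by
    rw [hc, add_mul, mul_add, mul_assoc u, Aw, ← mul_assoc u, Au, mul_assoc A, mul_assoc w, Au,
      ← mul_assoc w, Aw, mul_assoc A]
  have cC : c * C = C * c := by
    rw [hc, add_mul, mul_add, mul_assoc u, Cw, ← mul_assoc u, Cu, mul_assoc C, mul_assoc w, Cu,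
      ← mul_assoc w, Cw, mul_assoc C]
  have hC1 : C * (c * c * u) = 0 := by
    refine h2 _ ?_
    have h := congrArg (c * ·) i1
    rw [← mul_assoc c B, cB, mul_assoc B, mul_sub, mul_sub, hBcuw, hBcwu, sub_zero,
      ← mul_assoc c, mul_add, cC, ← add_mul, mul_assoc, ← mul_assoc c] at h
    rw [← add_mul]
    exact h.symm
  have hC2 : C * (c * c * (u * w - w * u)) = 0 := by
    have ccu : w * (c * c) = c * c * w := by rw [← mul_assoc, cw, mul_assoc, cw, ← mul_assoc]
    have h1 := congrArg (· * w) hC1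
    have h2 := congrArg (w * ·) hC1
    rw [zero_mul, mul_assoc, mul_assoc (c * c)] at h1
    rw [mul_zero, ← mul_assoc w C, Cw, mul_assoc C, ← mul_assoc w, ccu, mul_assoc (c * c)] at h2
    rw [mul_sub, mul_sub, h1, h2, sub_zero]
  have hcA : c * c * A = A * (c * c) := by rw [mul_assoc, cA, ← mul_assoc, cA, mul_assoc]
  have hcB : c * c * B = B * (c * c) := by rw [mul_assoc, cB, ← mul_assoc, cB, mul_assoc]
  have hcC : c * c * C = C * (c * c) := by rw [mul_assoc, cC, ← mul_assoc, cC, mul_assoc]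
  rw [hD, pow_two, mul_add, mul_add, ← mul_assoc _ A, hcA, hAc, ← mul_assoc _ B, hcB, hBc,
    ← mul_assoc _ C, hcC, mul_assoc C, hC2, zero_mul, zero_mul, add_zero, add_zero]

end Cfsg.Agent.Lib.BenderOne83.Trace
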